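import Cfsg.Agent.Omega.Half.Basic

/-!
# LEMMA (1'L): END (helper404 #25745, #26283 (1))

Pure group theory.  `M` a 2-group normalised by the 2-group `T ≥ Q`, `M ≰ ZJ`, `ZJ ≤ L ≤ C(Q)`, `M L` abelian,
`M ∩ L ≤ ZJ`, `C_M(Q) ≤ L`; the members of `𝓦` normalise `Q` and act trivially on `M L / L`.  Take `u ∈ M - ZJ` with
`[u, T] ≤ ZJ`; then `x = [u, q]`, `q ∈ Q`, has all its `𝓦`-conjugates in `ZJ`, so `x = 1` and `u ∈ C_M(Q) ≤ L`.
-/

set_option autoImplicit false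

namespace Cfsg.Agent.Omega.NO3S.CaseLP.OnePEnd

open Subgroup

universe u

variable {G : Type u} [Group G]

/-- A 2-group acting on `B / A ≠ 1` has a nontrivial fixed point. -/
theorem exists_fixed_mod' [Finite G] {A B T : Subgroup G} (hne : ¬ B ≤ A)
    (hBA : B ≤ normalizer (A : Set G)) (hB2 : IsPGroup 2 B) (hT2 : IsPGroup 2 T)
    (hTA : T ≤ normalizer (A : Set G)) (hTB : T ≤ normalizer (B : Set G)) :
    ∃ b ∈ B, b ∉ A ∧ ∀ t ∈ T, t * b * t⁻¹ * b⁻¹ ∈ A := by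
  set K := normalizer (A : Set G) with hK
  have nA : (A.subgroupOf K).Normal := normal_subgroupOf_of_le_normalizer le_rfl
  set π := QuotientGroup.mk' (A.subgroupOf K) with hπ
  have hker : ∀ x : K, π x = 1 ↔ (x : G) ∈ A := fun x => QuotientGroup.eq_one_iff x
  have h1 : IsPGroup 2 ((B.subgroupOf K).map π) :=
    (hB2.comap_of_injective K.subtype K.subtype_injective).map π
  have h2 : IsPGroup 2 ((T.subgroupOf K).map π) :=
    (hT2.comap_of_injective K.subtype K.subtype_injective).map π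
  have h3 : (B.subgroupOf K).map π ≠ ⊥ := by
    intro h
    apply hne
    intro b hb
    have h4 : π ⟨b, hBA hb⟩ ∈ (B.subgroupOf K).map π := ⟨_, hb, rfl⟩
    rw [h, mem_bot] at h4
    exact (hker _).1 h4
  have h4 : (T.subgroupOf K).map π ≤ normalizer (((B.subgroupOf K).map π : Subgroup _) : Set _) := by
    have key : ∀ t ∈ (T.subgroupOf K).map π, ∀ b ∈ (B.subgroupOf K).map π, t * b * t⁻¹ ∈ (B.subgroupOf K).map π := by
      rintro _ ⟨t, ht, rfl⟩ _ ⟨b, hb, rfl⟩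
      refine ⟨t * b * t⁻¹, ?_, by simp⟩
      exact (mem_normalizer_iff.1 (hTB ht) (b : G)).1 hb
    intro t ht
    rw [mem_normalizer_iff]
    refine fun b => ⟨key t ht b, fun hb => ?_⟩
    have h5 := key t⁻¹ (inv_mem ht) _ hb
    have e : t⁻¹ * (t * b * t⁻¹) * t⁻¹⁻¹ = b := by group
    rwa [e] at h5
  obtain ⟨v, hv, hv1, hvt⟩ := Half.exists_fixed h1 h3 h2 h4
  obtain ⟨b, hb, rfl⟩ := hv
  refine ⟨b, hb, fun h => hv1 ((hker b).2 h), fun t ht => ?_⟩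
  have h5 := hvt (π ⟨t, hTA ht⟩) ⟨_, ht, rfl⟩
  have h6 : π (⟨t, hTA ht⟩ * b * ⟨t, hTA ht⟩⁻¹ * b⁻¹) = 1 := by
    rw [map_mul, map_mul, map_mul, map_inv, map_inv, h5, mul_inv_cancel]
  exact (hker _).1 h6

/-- **END.** -/
theorem false_of [Finite G] {T Q ZJ L M : Subgroup G} {𝓦 : Set (Subgroup G)} (hT : IsPGroup 2 T) (QT : Q ≤ T)
    (TM : T ≤ normalizer (M : Set G)) (TZ : T ≤ centralizer (ZJ : Set G)) (ZL : ZJ ≤ L)
    (LQ : L ≤ centralizer (Q : Set G)) (comm : ∀ a ∈ M ⊔ L, ∀ b ∈ M ⊔ L, a * b = b * a) (M2 : IsPGroup 2 M)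
    (ML : M ⊓ L ≤ ZJ) (ne : ¬ M ≤ ZJ) (cQ : M ⊓ centralizer (Q : Set G) ≤ L)
    (WQ : ∀ W ∈ 𝓦, W ≤ normalizer (Q : Set G))
    (WM : ∀ W ∈ 𝓦, ∀ w ∈ W, ∀ u ∈ M, w * u * w⁻¹ * u⁻¹ ∈ L)
    (cap : ∀ W ∈ 𝓦, ∀ w ∈ W, ∀ x ∈ ZJ, w * x * w⁻¹ ∈ ZJ → w * x * w⁻¹ = x)
    (fix : ∀ x ∈ ZJ, (∀ W ∈ 𝓦, ∀ w ∈ W, w * x * w⁻¹ = x) → x = 1) : False := by
  have hMZ : ∀ m ∈ M, ∀ x ∈ ZJ, m * x = x * m := fun m hm x hx =>
    comm m (mem_sup_left hm) x (mem_sup_right (ZL hx))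
  have hTc : ∀ t ∈ T, ∀ x ∈ ZJ, t * x = x * t := fun t ht x hx => ((mem_centralizer_iff.1 (TZ ht)) x hx).symm
  have hcn : ∀ {A : Subgroup G} (g : G), (∀ x ∈ A, g * x = x * g) → g ∈ normalizer (A : Set G) := by
    intro A g hg
    rw [mem_normalizer_iff]
    intro x
    constructor
    · intro hx
      rw [hg x hx, mul_inv_cancel_right]
      exact hx
    · intro hx
      have h1 := hg _ hx
      have h2 : x = g * x * g⁻¹ := by
        have h3 : g⁻¹ * (g * (g * x * g⁻¹)) * g = g⁻¹ * (g * x * g⁻¹ * g) * g := by rw [h1]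
        have h4 : g⁻¹ * (g * (g * x * g⁻¹)) * g = g * x := by group
        have h5 : g⁻¹ * (g * x * g⁻¹ * g) * g = x * g := by group
        rw [h4, h5] at h3
        rw [h3, mul_inv_cancel_right]
      rw [h2]
      exact hx
  obtain ⟨u, hu, huA, hut⟩ := exists_fixed_mod' (A := M ⊓ ZJ) (B := M) (T := T) (fun h => ne (h.trans inf_le_right))
    (fun m hm => hcn m fun x hx => hMZ m hm x hx.2) M2 hT (fun t ht => hcn t fun x hx => hTc t ht x hx.2) TM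
  have huZ : u ∉ ZJ := fun h => huA ⟨hu, h⟩
  refine huZ (ML ⟨hu, cQ ⟨hu, ?_⟩⟩)
  change u ∈ centralizer (Q : Set G)
  rw [mem_centralizer_iff]
  intro q hq
  have hx : q * u * q⁻¹ * u⁻¹ ∈ ZJ := (hut q (QT hq)).2
  have key : q * u * q⁻¹ * u⁻¹ = 1 := by
    refine fix _ hx fun W hW w hw => cap W hW w hw _ hx ?_
    have hq' : w * q * w⁻¹ ∈ Q := (mem_normalizer_iff.1 (WQ W hW hw) q).1 hq
    obtain ⟨l, hl⟩ : ∃ l, l = w * u * w⁻¹ * u⁻¹ := ⟨_, rfl⟩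
    have hlL : l ∈ L := hl ▸ WM W hW w hw u hu
    have hwu : w * u * w⁻¹ = l * u := by rw [hl, inv_mul_cancel_right]
    obtain ⟨q', hqq⟩ : ∃ q', q' = w * q * w⁻¹ := ⟨_, rfl⟩
    rw [← hqq] at hq'
    have h1 : q' * u * q'⁻¹ * u⁻¹ ∈ ZJ := (hut q' (QT hq')).2
    have h2 : q' * l = l * q' := (mem_centralizer_iff.1 (LQ hlL)) q' hq'
    have h3 : l * (q' * u * q'⁻¹ * u⁻¹) = (q' * u * q'⁻¹ * u⁻¹) * l :=
      comm _ (mem_sup_right hlL) _ (mem_sup_right (ZL h1))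
    have e : w * (q * u * q⁻¹ * u⁻¹) * w⁻¹ = q' * u * q'⁻¹ * u⁻¹ := by
      calc w * (q * u * q⁻¹ * u⁻¹) * w⁻¹
          = (w * q * w⁻¹) * (w * u * w⁻¹) * (w * q * w⁻¹)⁻¹ * (w * u * w⁻¹)⁻¹ := by group
        _ = q' * (l * u) * q'⁻¹ * (l * u)⁻¹ := by rw [← hqq, hwu]
        _ = (q' * l) * u * q'⁻¹ * u⁻¹ * l⁻¹ := by group
        _ = l * (q' * u * q'⁻¹ * u⁻¹) * l⁻¹ := by rw [h2]; group
        _ = q' * u * q'⁻¹ * u⁻¹ := by rw [h3, mul_inv_cancel_right]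
    rw [e]
    exact h1
  have h4 : q * u * q⁻¹ = u := by rw [← mul_inv_eq_one]; exact key
  calc q * u = q * u * q⁻¹ * q := by group
    _ = u * q := by rw [h4]

end Cfsg.Agent.Omega.NO3S.CaseLP.OnePEnd
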