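import Cfsg.Agent.Omega.NO3S.OneLine.Abs

/-!
# LEMMA (1'L) (helper404, #25745): END

`Q ≤ T`, `V ≤ C(Q)` abelian, `Z_J ≤ V`, `M ≤ T` normal in `T`, `M ≰ V`; every `W i` normalises `Q`, `[M, W i] ≤ V`,
`[V, W i] ≤ Z₃ i`, `Z_J ∩ Z₃ i = 1`.

* `core` : `u ∈ M`, `[u, Q] ≤ Z_J`: then `W i` centralises `[u, Q]`;
* **`false_of`** : if `M ∩ V ≤ Z_J`, `C_M(Q) ≤ V` and the `W i` have no common fixed point in `Z_J#`, then `False`.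
-/

set_option autoImplicit false

namespace Cfsg.Agent.Omega.NO3S.OnePL

open Subgroup Cfsg Cfsg.Agent.ZN

universe u v

variable {G : Type u} [Group G]

/-- `[u, Q] ≤ Z_J` is centralised by `W`. -/
theorem core {Q V ZJ W Z3 : Subgroup G} {u : G} (hu : ∀ q ∈ Q, q * u * q⁻¹ * u⁻¹ ∈ ZJ)
    (hVQ : ∀ v ∈ V, ∀ q ∈ Q, v * q = q * v) (hVV : ∀ v ∈ V, ∀ z ∈ ZJ, v * z = z * v) (hZV : ZJ ≤ V)
    (hWQ : W ≤ normalizer (Q : Set G)) (huW : ∀ w ∈ W, w * u * w⁻¹ * u⁻¹ ∈ V)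
    (hVW : ∀ w ∈ W, ∀ v ∈ V, w * v * w⁻¹ * v⁻¹ ∈ Z3) (hd : ZJ ⊓ Z3 = ⊥) :
    ∀ w ∈ W, ∀ q ∈ Q, w * (q * u * q⁻¹ * u⁻¹) = q * u * q⁻¹ * u⁻¹ * w := by
  intro w hw q hq
  set c : G := q * u * q⁻¹ * u⁻¹ with hc
  have hcJ : c ∈ ZJ := hu q hq
  obtain ⟨v, hv, hvu⟩ : ∃ v ∈ V, w * u * w⁻¹ = v * u := ⟨_, huW w hw, by group⟩
  obtain ⟨q', hq'd⟩ : ∃ q', q' = w * q * w⁻¹ := ⟨_, rfl⟩
  have hq' : q' ∈ Q := hq'd ▸ (mem_normalizer_iff.1 (hWQ hw) q).1 hq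
  have hvq : v * q' = q' * v := hVQ v hv q' hq'
  have h1 : w * c * w⁻¹ ∈ ZJ := by
    have e : w * c * w⁻¹ = q' * (w * u * w⁻¹) * q'⁻¹ * (w * u * w⁻¹)⁻¹ := by rw [hc, hq'd]; group
    have h2 := hu _ hq'
    have h3 : q' * (v * u) * q'⁻¹ * (v * u)⁻¹ = v * (q' * u * q'⁻¹ * u⁻¹) * v⁻¹ := by
      have h4 : q' * (v * u) = v * (q' * u) := by rw [← mul_assoc, ← hvq, mul_assoc]
      rw [h4]
      group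
    rw [e, hvu, h3, hVV v hv _ h2, mul_inv_cancel_right]
    exact h2
  have h5 : w * c * w⁻¹ * c⁻¹ ∈ ZJ ⊓ Z3 := mem_inf.2 ⟨mul_mem h1 (inv_mem hcJ), hVW w hw c (hZV hcJ)⟩
  rw [hd, mem_bot] at h5
  have h6 : w * c * w⁻¹ = c := mul_inv_eq_one.1 h5
  calc w * c = w * c * w⁻¹ * w := by group
    _ = c * w := by rw [h6]

/-- **END of (1'L)** -/
theorem false_of [Finite G] {ι : Type v} {T Q V ZJ M : Subgroup G} {W Z3 : ι → Subgroup G} (hT : IsPGroup 2 T)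
    (hQT : Q ≤ T) (hMT : M ≤ T) (hTM : T ≤ normalizer (M : Set G))
    (hVQ : ∀ v ∈ V, ∀ q ∈ Q, v * q = q * v) (hVV : ∀ v ∈ V, ∀ z ∈ ZJ, v * z = z * v) (hZV : ZJ ≤ V)
    (hMZ : ¬ M ≤ ZJ) (hMV : M ⊓ V ≤ ZJ) (hcM : ∀ u ∈ M, (∀ q ∈ Q, q * u = u * q) → u ∈ V)
    (hWQ : ∀ i, W i ≤ normalizer (Q : Set G)) (hMW : ∀ i, ∀ w ∈ W i, ∀ u ∈ M, w * u * w⁻¹ * u⁻¹ ∈ V)
    (hVW : ∀ i, ∀ w ∈ W i, ∀ v ∈ V, w * v * w⁻¹ * v⁻¹ ∈ Z3 i) (hd : ∀ i, ZJ ⊓ Z3 i = ⊥)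
    (hfin : ∀ c ∈ ZJ, (∀ i, ∀ w ∈ W i, w * c = c * w) → c = 1) : False := by
  obtain ⟨u, hu, huZ, huT⟩ := OneLine.exists_fixed hT hMT hTM hMZ
  have huQ : ∀ q ∈ Q, q * u * q⁻¹ * u⁻¹ ∈ ZJ := fun q hq => huT q (hQT hq)
  have h1 : ∀ q ∈ Q, q * u * q⁻¹ * u⁻¹ = 1 := fun q hq => hfin _ (huQ q hq) fun i w hw =>
    core huQ hVQ hVV hZV (hWQ i) (fun w' hw' => hMW i w' hw' u hu) (hVW i) (hd i) w hw q hq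
  have h2 : u ∈ V := hcM u hu fun q hq => by
    have h3 := mul_inv_eq_one.1 (h1 q hq)
    exact mul_inv_eq_iff_eq_mul.1 h3
  exact huZ (hMV (mem_inf.2 ⟨hu, h2⟩))

end Cfsg.Agent.Omega.NO3S.OnePL
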