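import Mathlib

/-!
# (TOR), (T4): `K_i` centralises `W_j`

The text: helper150 #24652, (T4).  Pure group theory: no module, no frame.

`W_i`, `W_j ≤ U` abelian, `W_i ∩ W_j = 1`, `K` normalises `W_i`, `W_j ≤ W_i C(K)`; `h ∈ K` fixed-point-free on `W_i`,
trivial on `V_j`, normalises `Q`; `A` centralises `W_j`, `C_{W_i}(A) ≤ V_i`; `t` normalises `K`, `W_i`,
`[W_j, t] ≤ V_j`, `C_{V_i}(t) ≤ ⟨z⟩`; `k` (= `h_j`) normalises `Q`, `W_j`, centralises `V_i`, is fixed-point-free of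
order 3 on `W_j`; the 2-elements of `N_G(Q) ∩ C_G(L)` lie in `Q`; `[h, k] ∈ C_G(L)`; `Q ≤ N(W_j)`.

`T4.cent` : `W_j ≤ C(K)`.
-/

set_option autoImplicit false
set_option linter.unusedSectionVars false

namespace Cfsg.Agent.Omega.NO3S.CaseLP.TorFour

open Subgroup

variable {G : Type*} [Group G]

/-- **The hypotheses of (T4)**. -/
structure T4 (Q L U K A Wi Vi Wj Vj : Subgroup G) (z h k t : G) : Prop where
  comm : ∀ x ∈ U, ∀ y ∈ U, x * y = y * x
  sq : ∀ x ∈ U, x * x = 1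
  WiU : Wi ≤ U
  WjU : Wj ≤ U
  inf : Wi ⊓ Wj = ⊥
  ViWi : Vi ≤ Wi
  VjWj : Vj ≤ Wj
  nK : K ≤ normalizer (Wi : Set G)
  dec : ∀ w ∈ Wj, ∃ x ∈ Wi, x * w ∈ centralizer (K : Set G)
  hK : h ∈ K
  hfix : ∀ x ∈ Wi, h * x = x * h → x = 1
  hVj : h ∈ centralizer (Vj : Set G)
  hQ : h ∈ normalizer (Q : Set G)
  hVi : h ∈ normalizer (Vi : Set G)
  AK : A ≤ K
  AW : A ≤ centralizer (Wj : Set G)
  CA : Wi ⊓ centralizer (A : Set G) ≤ Vi
  tK : t ∈ normalizer (K : Set G)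
  tW : t ∈ normalizer (Wi : Set G)
  tWj : ∀ w ∈ Wj, ∃ v ∈ Vj, t * w * t⁻¹ = v * w
  ct : ∀ x ∈ Vi, t * x = x * t → x = 1 ∨ x = z
  kQ : k ∈ normalizer (Q : Set G)
  kW : k ∈ normalizer (Wj : Set G)
  kVi : k ∈ centralizer (Vi : Set G)
  k3 : k ^ 3 ∈ centralizer (Wj : Set G)
  kfix : ∀ x ∈ Wj, k * x = x * k → x = 1
  QL : ∀ g ∈ normalizer (Q : Set G), g ∈ centralizer (L : Set G) → (∃ n : ℕ, g ^ 2 ^ n = 1) → g ∈ Q
  gL : h * k * h⁻¹ * k⁻¹ ∈ centralizer (L : Set G)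
  QW : Q ≤ normalizer (Wj : Set G)

namespace T4

variable {Q L U K A Wi Vi Wj Vj : Subgroup G} {z h k t : G}

theorem conj_mem {H : Subgroup G} {g x : G} (hg : g ∈ normalizer (H : Set G)) (hx : x ∈ H) : g * x * g⁻¹ ∈ H :=
  (mem_normalizer_iff.1 hg x).1 hx

theorem cen {H : Subgroup G} {g x : G} (hg : g ∈ centralizer (H : Set G)) (hx : x ∈ H) : g * x * g⁻¹ = x := by
  rw [← mem_centralizer_iff.1 hg x hx]; group

/-- the centraliser of `K` is normalised by the normaliser of `K` -/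
theorem cen_conj {g c : G} (hg : g ∈ normalizer (K : Set G)) (hc : c ∈ centralizer (K : Set G)) :
    g * c * g⁻¹ ∈ centralizer (K : Set G) := by
  rw [mem_centralizer_iff] at hc ⊢
  intro x hx
  have h1 : g⁻¹ * x * g ∈ K := by
    have := conj_mem (inv_mem hg) hx
    simpa using this
  have h2 := hc _ h1
  calc x * (g * c * g⁻¹) = g * ((g⁻¹ * x * g) * c) * g⁻¹ := by group
    _ = g * (c * (g⁻¹ * x * g)) * g⁻¹ := by rw [h2]
    _ = g * c * g⁻¹ * x := by group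

variable (H : T4 Q L U K A Wi Vi Wj Vj z h k t)
include H

/-- `C_{W_i}(K) = 1` -/
theorem WiK {x : G} (hx : x ∈ Wi) (hxK : x ∈ centralizer (K : Set G)) : x = 1 :=
  H.hfix x hx (mem_centralizer_iff.1 hxK h H.hK)

/-- `w = z^λ c`, `c ∈ C(K)` -/
theorem lam {w : G} (hw : w ∈ Wj) : w ∈ centralizer (K : Set G) ∨ z ∈ Vi ∧ z * w ∈ centralizer (K : Set G) := by
  obtain ⟨x, hx, hxw⟩ := H.dec w hw
  have hxU := H.WiU hx
  have hwU := H.WjU hw
  -- `x ∈ C(A)`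
  have h1 : x ∈ Vi := by
    refine H.CA ⟨hx, mem_centralizer_iff.2 fun a ha => ?_⟩
    have e1 : a * w = w * a := (mem_centralizer_iff.1 (H.AW ha) w hw).symm
    have e2 : a * (x * w) = x * w * a := mem_centralizer_iff.1 hxw a (H.AK ha)
    have e3 : a * x * w = x * a * w := by rw [mul_assoc, e2, mul_assoc, ← e1, mul_assoc]
    exact mul_right_cancel e3
  -- `x ∈ C(t)`
  have h2 : t * x = x * t := by
    obtain ⟨v, hv, e⟩ := H.tWj w hw
    have hvU := H.WjU (H.VjWj hv)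
    -- `v` is centralised by `K`
    have hvK : v ∈ centralizer (K : Set G) := by
      obtain ⟨y, hy, hyv⟩ := H.dec v (H.VjWj hv)
      have hyU := H.WiU hy
      have e1 : h * v = v * h := (mem_centralizer_iff.1 H.hVj v hv).symm
      have e2 : h * (y * v) = y * v * h := mem_centralizer_iff.1 hyv h H.hK
      have e3 : h * y * v = y * h * v := by rw [mul_assoc, e2, mul_assoc, ← e1, mul_assoc]
      have e4 := H.hfix y hy (mul_right_cancel e3)
      rwa [e4, one_mul] at hyv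
    have e1 : t * (x * w) * t⁻¹ ∈ centralizer (K : Set G) := cen_conj H.tK hxw
    have e2 : t * (x * w) * t⁻¹ = (t * x * t⁻¹) * v * w := by
      calc t * (x * w) * t⁻¹ = (t * x * t⁻¹) * (t * w * t⁻¹) := by group
        _ = _ := by rw [e]; group
    have htx : t * x * t⁻¹ ∈ Wi := conj_mem H.tW hx
    have htxU := H.WiU htx
    have e3 : (t * x * t⁻¹) * x⁻¹ ∈ centralizer (K : Set G) := by
      have : (t * x * t⁻¹) * x⁻¹ = (t * (x * w) * t⁻¹) * (x * w)⁻¹ * v⁻¹ := by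
        rw [e2, mul_inv_rev]
        have : w * (w⁻¹ * x⁻¹) = x⁻¹ := by group
        rw [mul_assoc (t * x * t⁻¹ * v), this, H.comm _ htxU _ hvU]
        have c1 := H.comm _ (U.mul_mem htxU (U.inv_mem hxU)) _ hvU
        calc t * x * t⁻¹ * x⁻¹ = (t * x * t⁻¹ * x⁻¹) * v * v⁻¹ := by group
          _ = v * (t * x * t⁻¹ * x⁻¹) * v⁻¹ := by rw [c1]
          _ = _ := by group
      rw [this]
      exact mul_mem (mul_mem e1 (inv_mem hxw)) (inv_mem hvK)
    have e4 := H.WiK (mul_mem htx (inv_mem hx)) e3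
    have e5 : t * x * t⁻¹ = x := by rw [← mul_inv_eq_one]; exact e4
    calc t * x = t * x * t⁻¹ * t := by group
      _ = x * t := by rw [e5]
  rcases H.ct x h1 h2 with rfl | rfl
  · left; rwa [one_mul] at hxw
  · right; exact ⟨h1, hxw⟩

/-- the kernel of `λ` is `C_{W_j}(K)` -/
theorem sum {x y : G} (hx : x ∈ Wj) (hy : y ∈ Wj) (hx' : x ∉ centralizer (K : Set G))
    (hy' : y ∉ centralizer (K : Set G)) : x * y ∈ centralizer (K : Set G) := by
  rcases H.lam hx with h1 | ⟨hz, h1⟩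
  · exact absurd h1 hx'
  rcases H.lam hy with h2 | ⟨-, h2⟩
  · exact absurd h2 hy'
  have hzU := H.WiU (H.ViWi hz)
  have e : x * y = (z * x) * (z * y) := by
    calc x * y = (z * z) * (x * y) := by rw [H.sq z hzU, one_mul]
      _ = z * (z * x) * y := by group
      _ = z * (x * z) * y := by rw [H.comm z hzU x (H.WjU hx)]
      _ = _ := by group
  rw [e]
  exact mul_mem h1 h2

/-- `h` on `W_j` -/
theorem act_h {w : G} (hw : w ∈ Wj) : (w ∈ centralizer (K : Set G) ∧ h * w * h⁻¹ = w ∧ h⁻¹ * w * h = w) ∨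
    (w ∉ centralizer (K : Set G) ∧ z ∈ Vi ∧ h * w * h⁻¹ = (h * z * h⁻¹ * z) * w ∧
      h⁻¹ * w * h = (h⁻¹ * z * h * z) * w) := by
  by_cases hc : w ∈ centralizer (K : Set G)
  · left
    have e : h * w = w * h := mem_centralizer_iff.1 hc h H.hK
    refine ⟨hc, by rw [e]; group, ?_⟩
    calc h⁻¹ * w * h = h⁻¹ * (w * h) := by group
      _ = h⁻¹ * (h * w) := by rw [e]
      _ = w := by group
  · right
    rcases H.lam hw with h1 | ⟨hz, h1⟩
    · exact absurd h1 hc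
    have hzU := H.WiU (H.ViWi hz)
    have ew : w = z * (z * w) := by rw [← mul_assoc, H.sq z hzU, one_mul]
    have e : h * (z * w) = z * w * h := mem_centralizer_iff.1 h1 h H.hK
    refine ⟨hc, hz, ?_, ?_⟩
    · calc h * w * h⁻¹ = h * (z * (z * w)) * h⁻¹ := by rw [← ew]
        _ = h * z * h⁻¹ * (h * (z * w)) * h⁻¹ := by group
        _ = h * z * h⁻¹ * (z * w * h) * h⁻¹ := by rw [e]
        _ = _ := by group
    · calc h⁻¹ * w * h = h⁻¹ * (z * (z * w)) * h := by rw [← ew]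
        _ = h⁻¹ * z * (z * w * h) := by group
        _ = h⁻¹ * z * (h * (z * w)) := by rw [e]
        _ = _ := by group

theorem k_conj {x : G} (hx : x ∈ Wj) : k⁻¹ * x * k ∈ Wj := by
  have := conj_mem (inv_mem H.kW) hx
  simpa using this

theorem g_Vi {v : G} (hv : v ∈ Vi) : (h * k * h⁻¹ * k⁻¹) * v * (h * k * h⁻¹ * k⁻¹)⁻¹ = v := by
  have h1 : h⁻¹ * v * h ∈ Vi := by
    have := conj_mem (inv_mem H.hVi) hv
    simpa using this
  have e1 : k⁻¹ * v * k = v := by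
    have := mem_centralizer_iff.1 H.kVi v hv
    calc k⁻¹ * v * k = k⁻¹ * (v * k) := by group
      _ = k⁻¹ * (k * v) := by rw [this]
      _ = v := by group
  have e2 : k * (h⁻¹ * v * h) * k⁻¹ = h⁻¹ * v * h := cen H.kVi h1
  calc (h * k * h⁻¹ * k⁻¹) * v * (h * k * h⁻¹ * k⁻¹)⁻¹
      = h * (k * (h⁻¹ * (k⁻¹ * v * k) * h) * k⁻¹) * h⁻¹ := by group
    _ = h * (h⁻¹ * v * h) * h⁻¹ := by rw [e1, e2]
    _ = v := by group

/-- `g := [h, k]` on `W_j` -/
theorem g_Wj {x : G} (hx : x ∈ Wj) (hne : (x ∈ centralizer (K : Set G)) ↔ ¬ (k⁻¹ * x * k ∈ centralizer (K : Set G))) :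
    z ∈ Vi ∧ (h * k * h⁻¹ * k⁻¹) * x * (h * k * h⁻¹ * k⁻¹)⁻¹ = (h * z * h⁻¹ * z) * x := by
  have hy := H.k_conj hx
  have e0 : (h * k * h⁻¹ * k⁻¹) * x * (h * k * h⁻¹ * k⁻¹)⁻¹ =
      h * (k * (h⁻¹ * (k⁻¹ * x * k) * h) * k⁻¹) * h⁻¹ := by group
  rcases H.act_h hx with ⟨c1, e1, -⟩ | ⟨c1, hz, e1, -⟩
  · rcases H.act_h hy with ⟨c2, -, -⟩ | ⟨-, hz, -, e2⟩
    · exact absurd c2 (hne.1 c1)
    refine ⟨hz, ?_⟩
    have hzU := H.WiU (H.ViWi hz)
    have hu : h⁻¹ * z * h ∈ Vi := by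
      have := conj_mem (inv_mem H.hVi) hz
      simpa using this
    have hu2 : h * z * h⁻¹ ∈ Vi := conj_mem H.hVi hz
    have e3 : k * (h⁻¹ * z * h * z) * k⁻¹ = h⁻¹ * z * h * z := cen H.kVi (Vi.mul_mem hu hz)
    rw [e0, e2]
    calc h * (k * (h⁻¹ * z * h * z * (k⁻¹ * x * k)) * k⁻¹) * h⁻¹
        = h * ((k * (h⁻¹ * z * h * z) * k⁻¹) * x) * h⁻¹ := by group
      _ = h * ((h⁻¹ * z * h * z) * x) * h⁻¹ := by rw [e3]
      _ = (z * (h * z * h⁻¹)) * (h * x * h⁻¹) := by group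
      _ = (h * z * h⁻¹ * z) * x := by rw [e1, H.comm z hzU _ (H.WiU (H.ViWi hu2))]
  · rcases H.act_h hy with ⟨c2, -, e2⟩ | ⟨c2, -, -, -⟩
    swap
    · exact absurd (hne.2 c2) c1
    refine ⟨hz, ?_⟩
    rw [e0, e2]
    calc h * (k * (k⁻¹ * x * k) * k⁻¹) * h⁻¹ = h * x * h⁻¹ := by group
      _ = _ := e1

variable [Finite G]

/-- the kernel of `λ` is `k`-invariant -/
theorem ker_k {x : G} (hx : x ∈ Wj) : (x ∈ centralizer (K : Set G)) ↔ (k⁻¹ * x * k ∈ centralizer (K : Set G)) := by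
  by_contra hne
  have hne' : (x ∈ centralizer (K : Set G)) ↔ ¬ (k⁻¹ * x * k ∈ centralizer (K : Set G)) := by tauto
  obtain ⟨hz, e⟩ := H.g_Wj hx hne'
  set g := h * k * h⁻¹ * k⁻¹ with hg
  set u := h * z * h⁻¹ * z with hu
  have hzU := H.WiU (H.ViWi hz)
  have huV : u ∈ Vi := Vi.mul_mem (conj_mem H.hVi hz) hz
  have huU := H.WiU (H.ViWi huV)
  -- odd powers of `g` act like `g`
  have hpow : ∀ n : ℕ, g ^ (2 * n) * x * (g ^ (2 * n))⁻¹ = x := by
    intro n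
    induction n with
    | zero => simp
    | succ n ih =>
      have e2 : g * (g * x * g⁻¹) * g⁻¹ = x := by
        rw [e]
        calc g * (u * x) * g⁻¹ = (g * u * g⁻¹) * (g * x * g⁻¹) := by group
          _ = u * (u * x) := by rw [e, H.g_Vi huV]
          _ = x := by rw [← mul_assoc, H.sq u huU, one_mul]
      calc g ^ (2 * (n + 1)) * x * (g ^ (2 * (n + 1)))⁻¹
          = g * (g * (g ^ (2 * n) * x * (g ^ (2 * n))⁻¹) * g⁻¹) * g⁻¹ := by
            rw [show 2 * (n + 1) = 1 + (1 + 2 * n) by ring, pow_add, pow_add, pow_one]; group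
        _ = x := by rw [ih, e2]
  have hodd : ∀ m : ℕ, Odd m → g ^ m * x * (g ^ m)⁻¹ = u * x := by
    rintro m ⟨n, rfl⟩
    calc g ^ (2 * n + 1) * x * (g ^ (2 * n + 1))⁻¹ = g * (g ^ (2 * n) * x * (g ^ (2 * n))⁻¹) * g⁻¹ := by
          rw [show 2 * n + 1 = 1 + 2 * n by ring, pow_add, pow_one]; group
      _ = u * x := by rw [hpow, e]
  obtain ⟨a, m, hm, hgm⟩ : ∃ a m : ℕ, Odd m ∧ orderOf g = 2 ^ a * m := by
    obtain ⟨a, m, h1, h2⟩ := Nat.exists_eq_two_pow_mul_odd (orderOf_pos g).ne'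
    exact ⟨a, m, h1, h2⟩
  have hgQ : g ∈ normalizer (Q : Set G) := mul_mem (mul_mem (mul_mem H.hQ H.kQ) (inv_mem H.hQ)) (inv_mem H.kQ)
  have hq : g ^ m ∈ Q := by
    refine H.QL _ (pow_mem hgQ _) (pow_mem H.gL _) ⟨a, ?_⟩
    rw [← pow_mul, mul_comm, ← hgm, pow_orderOf_eq_one]
  have h1 : g ^ m * x * (g ^ m)⁻¹ ∈ Wj := conj_mem (H.QW hq) hx
  rw [hodd m hm] at h1
  have h2 : u ∈ Wj := by
    have := Wj.mul_mem h1 (Wj.inv_mem hx)
    simpa using this
  have h3 : u = 1 := by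
    have : u ∈ Wi ⊓ Wj := ⟨H.ViWi huV, h2⟩
    rw [H.inf] at this
    simpa using this
  have h4 : h * z = z * h := by
    have e1 : h * z * h⁻¹ = z := by
      have : h * z * h⁻¹ = u * z⁻¹ := by rw [hu]; group
      rw [this, h3, one_mul]
      exact (eq_inv_of_mul_eq_one_left (H.sq z hzU)).symm
    calc h * z = h * z * h⁻¹ * h := by group
      _ = z * h := by rw [e1]
  have h5 : z = 1 := H.hfix z (H.ViWi hz) h4
  have hall : ∀ {w : G}, w ∈ Wj → w ∈ centralizer (K : Set G) := by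
    intro w hw
    rcases H.lam hw with h | ⟨-, h⟩
    · exact h
    · rwa [h5, one_mul] at h
  exact hne ⟨fun _ => hall (H.k_conj hx), fun _ => hall hx⟩

/-- **(T4)**: `K_i` centralises `W_j`. -/
theorem cent : Wj ≤ centralizer (K : Set G) := by
  intro x hx
  by_contra hc
  set y := k⁻¹ * x * k with hy
  set y' := k⁻¹ * y * k with hy'
  have hyW : y ∈ Wj := H.k_conj hx
  have hyW' : y' ∈ Wj := H.k_conj hyW
  have h1 : y ∉ centralizer (K : Set G) := fun h => hc ((H.ker_k hx).2 h)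
  have h2 : y' ∉ centralizer (K : Set G) := fun h => h1 ((H.ker_k hyW).2 h)
  have h3 : x * y ∈ centralizer (K : Set G) := H.sum hx hyW hc h1
  have hp : x * y * y' ∈ Wj := Wj.mul_mem (Wj.mul_mem hx hyW) hyW'
  have e3 : k⁻¹ * y' * k = x := by
    have := mem_centralizer_iff.1 H.k3 x hx
    calc k⁻¹ * y' * k = (k ^ 3)⁻¹ * (x * k ^ 3) := by rw [hy', hy, pow_succ, pow_succ, pow_one]; group
      _ = (k ^ 3)⁻¹ * (k ^ 3 * x) := by rw [this]
      _ = x := by group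
  have e4 : k⁻¹ * (x * y * y') * k = x * y * y' := by
    calc k⁻¹ * (x * y * y') * k = (k⁻¹ * x * k) * (k⁻¹ * y * k) * (k⁻¹ * y' * k) := by group
      _ = y * y' * x := by rw [e3, ← hy, ← hy']
      _ = x * (y * y') := H.comm _ (H.WjU (Wj.mul_mem hyW hyW')) _ (H.WjU hx)
      _ = _ := by group
  have e5 : k * (x * y * y') = x * y * y' * k := by
    calc k * (x * y * y') = k * (k⁻¹ * (x * y * y') * k) := by rw [e4]
      _ = _ := by group
  have e6 := H.kfix _ hp e5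
  apply h2
  have : y' = (x * y)⁻¹ := (eq_inv_of_mul_eq_one_right e6)
  rw [this]
  exact inv_mem h3

end T4

end Cfsg.Agent.Omega.NO3S.CaseLP.TorFour
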